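import Cfsg.Agent.H94.BaseTwo.CertDefs

/-!
Pair certificates for the model with field size 3, width 2, minus = false.
Found by computer search; every entry is checked by evaluation in the kernel.
-/

set_option autoImplicit false
set_option maxRecDepth 100000
set_option maxHeartbeats 0

namespace Cfsg.Agent.H14.BaseTwoCert.S32

open Cfsg.Agent.H94.BaseTwo

/-- The pair number 0. -/
def pair0 : PairCert where
  gens := [⟨1, 0, 2, false⟩, ⟨1, 0, 1, false⟩]
  v := (.node (.node (.leaf 2) (.leaf 1)) (.node (.leaf 0) (.leaf 0)))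
  w := (.node (.node (.leaf 1) (.leaf 0)) (.node (.leaf 1) (.leaf 1)))
  rels := [[([(2, 0)], [(1, 0)])],
      [([(1, 0), (1, 1), (1, 3)], [(1, 0)]), ([(2, 1), (2, 3)], [(1, 1), (1, 3)])]]
  span := [[(2, 1), (2, 3)],
      [(1, 0), (2, 1), (2, 3)],
      [(1, 3), (2, 5)],
      [(2, 1), (1, 5)]]

/-- The nontrivial maps fixing the pair number 0. -/
def stab0 : List (List Vec) := [[(.node (.node (.leaf 1) (.leaf 0)) (.node (.leaf 0) (.leaf 0))),
   (.node (.node (.leaf 0) (.leaf 1)) (.node (.leaf 0) (.leaf 0))),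
   (.node (.node (.leaf 0) (.leaf 0)) (.node (.leaf 0) (.leaf 1))),
   (.node (.node (.leaf 0) (.leaf 0)) (.node (.leaf 1) (.leaf 0)))],
  [(.node (.node (.leaf 2) (.leaf 1)) (.node (.leaf 1) (.leaf 1))),
   (.node (.node (.leaf 1) (.leaf 2)) (.node (.leaf 1) (.leaf 1))),
   (.node (.node (.leaf 1) (.leaf 1)) (.node (.leaf 2) (.leaf 1))),
   (.node (.node (.leaf 1) (.leaf 1)) (.node (.leaf 1) (.leaf 2)))],
  [(.node (.node (.leaf 2) (.leaf 1)) (.node (.leaf 1) (.leaf 1))),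
   (.node (.node (.leaf 1) (.leaf 2)) (.node (.leaf 1) (.leaf 1))),
   (.node (.node (.leaf 1) (.leaf 1)) (.node (.leaf 1) (.leaf 2))),
   (.node (.node (.leaf 1) (.leaf 1)) (.node (.leaf 2) (.leaf 1)))]]

theorem good0 : goodPair 3 2 false pair0 stab0 = true := by decide +kernel

/-- The pair number 1. -/
def pair1 : PairCert where
  gens := [⟨1, 0, 2, false⟩, ⟨1, 2, 0, false⟩]
  v := (.node (.node (.leaf 2) (.leaf 2)) (.node (.leaf 2) (.leaf 1)))
  w := (.node (.node (.leaf 0) (.leaf 0)) (.node (.leaf 1) (.leaf 1)))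
  rels := [[([(1, 1)], [(1, 1)])],
      [([(2, 0), (2, 2)], [(1, 1)]), ([(2, 1)], [(1, 0), (1, 2)])]]
  span := [[(2, 0), (1, 1), (2, 2), (1, 4)],
      [(2, 0), (2, 1), (2, 2), (2, 4)],
      [(2, 0), (2, 1), (1, 2)],
      [(1, 0), (2, 1), (2, 2)]]

/-- The nontrivial maps fixing the pair number 1. -/
def stab1 : List (List Vec) := [[(.node (.node (.leaf 0) (.leaf 1)) (.node (.leaf 0) (.leaf 0))),
   (.node (.node (.leaf 1) (.leaf 0)) (.node (.leaf 0) (.leaf 0))),
   (.node (.node (.leaf 0) (.leaf 0)) (.node (.leaf 1) (.leaf 0))),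
   (.node (.node (.leaf 0) (.leaf 0)) (.node (.leaf 0) (.leaf 1)))],
  [(.node (.node (.leaf 2) (.leaf 1)) (.node (.leaf 2) (.leaf 1))),
   (.node (.node (.leaf 1) (.leaf 2)) (.node (.leaf 2) (.leaf 1))),
   (.node (.node (.leaf 2) (.leaf 2)) (.node (.leaf 2) (.leaf 2))),
   (.node (.node (.leaf 1) (.leaf 1)) (.node (.leaf 2) (.leaf 2)))],
  [(.node (.node (.leaf 1) (.leaf 2)) (.node (.leaf 2) (.leaf 1))),
   (.node (.node (.leaf 2) (.leaf 1)) (.node (.leaf 2) (.leaf 1))),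
   (.node (.node (.leaf 2) (.leaf 2)) (.node (.leaf 2) (.leaf 2))),
   (.node (.node (.leaf 1) (.leaf 1)) (.node (.leaf 2) (.leaf 2)))]]

theorem good1 : goodPair 3 2 false pair1 stab1 = true := by decide +kernel

/-- The pair number 2. -/
def pair2 : PairCert where
  gens := [⟨1, 0, 1, false⟩, ⟨1, 0, 2, false⟩]
  v := (.node (.node (.leaf 2) (.leaf 1)) (.node (.leaf 1) (.leaf 1)))
  w := (.node (.node (.leaf 1) (.leaf 0)) (.node (.leaf 1) (.leaf 0)))
  rels := [[([(2, 1)], [(1, 1)])],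
      [([(2, 0), (2, 2)], [(1, 1)]), ([(2, 1)], [(1, 0), (1, 2)])]]
  span := [[(2, 0), (2, 1), (2, 2)],
      [(1, 0), (2, 1), (2, 2), (2, 4)],
      [(1, 0), (2, 1), (1, 2)],
      [(1, 0), (1, 1), (2, 2), (1, 4)]]

/-- The nontrivial maps fixing the pair number 2. -/
def stab2 : List (List Vec) := [[(.node (.node (.leaf 1) (.leaf 0)) (.node (.leaf 0) (.leaf 0))),
   (.node (.node (.leaf 0) (.leaf 0)) (.node (.leaf 0) (.leaf 1))),
   (.node (.node (.leaf 0) (.leaf 0)) (.node (.leaf 1) (.leaf 0))),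
   (.node (.node (.leaf 0) (.leaf 1)) (.node (.leaf 0) (.leaf 0)))],
  [(.node (.node (.leaf 2) (.leaf 1)) (.node (.leaf 2) (.leaf 1))),
   (.node (.node (.leaf 1) (.leaf 2)) (.node (.leaf 2) (.leaf 1))),
   (.node (.node (.leaf 2) (.leaf 2)) (.node (.leaf 2) (.leaf 2))),
   (.node (.node (.leaf 1) (.leaf 1)) (.node (.leaf 2) (.leaf 2)))],
  [(.node (.node (.leaf 2) (.leaf 1)) (.node (.leaf 2) (.leaf 1))),
   (.node (.node (.leaf 1) (.leaf 1)) (.node (.leaf 2) (.leaf 2))),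
   (.node (.node (.leaf 2) (.leaf 2)) (.node (.leaf 2) (.leaf 2))),
   (.node (.node (.leaf 1) (.leaf 2)) (.node (.leaf 2) (.leaf 1)))]]

theorem good2 : goodPair 3 2 false pair2 stab2 = true := by decide +kernel

/-- The pair number 3. -/
def pair3 : PairCert where
  gens := [⟨1, 1, 0, false⟩, ⟨1, 0, 1, false⟩]
  v := (.node (.node (.leaf 2) (.leaf 1)) (.node (.leaf 2) (.leaf 1)))
  w := (.node (.node (.leaf 0) (.leaf 2)) (.node (.leaf 1) (.leaf 1)))
  rels := [[([(1, 0)], [(1, 0)])],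
      [([(2, 1), (2, 3)], [(1, 0)]), ([(2, 0)], [(1, 1), (1, 3)])]]
  span := [[(1, 0), (2, 1), (1, 3), (1, 5)],
      [(1, 0), (1, 1), (2, 3), (1, 5)],
      [(2, 1), (2, 5)],
      [(1, 0), (2, 3), (2, 5)]]

/-- The nontrivial maps fixing the pair number 3. -/
def stab3 : List (List Vec) := [[(.node (.node (.leaf 2) (.leaf 1)) (.node (.leaf 2) (.leaf 2))),
   (.node (.node (.leaf 1) (.leaf 2)) (.node (.leaf 2) (.leaf 2))),
   (.node (.node (.leaf 2) (.leaf 2)) (.node (.leaf 2) (.leaf 1))),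
   (.node (.node (.leaf 2) (.leaf 2)) (.node (.leaf 1) (.leaf 2)))],
  [(.node (.node (.leaf 1) (.leaf 0)) (.node (.leaf 0) (.leaf 0))),
   (.node (.node (.leaf 0) (.leaf 0)) (.node (.leaf 2) (.leaf 0))),
   (.node (.node (.leaf 0) (.leaf 2)) (.node (.leaf 0) (.leaf 0))),
   (.node (.node (.leaf 0) (.leaf 0)) (.node (.leaf 0) (.leaf 1)))],
  [(.node (.node (.leaf 2) (.leaf 1)) (.node (.leaf 2) (.leaf 2))),
   (.node (.node (.leaf 1) (.leaf 1)) (.node (.leaf 1) (.leaf 2))),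
   (.node (.node (.leaf 2) (.leaf 1)) (.node (.leaf 1) (.leaf 1))),
   (.node (.node (.leaf 2) (.leaf 2)) (.node (.leaf 1) (.leaf 2)))]]

theorem good3 : goodPair 3 2 false pair3 stab3 = true := by decide +kernel

/-- The certified pairs with their stabilisers. -/
def certs : List (PairCert × List (List Vec)) := [(pair0, stab0), (pair1, stab1), (pair2, stab2), (pair3, stab3)]

/-- The branch tree over the stabilisers. -/
def tree : Tree := (.branch 0 [(.branch 2 [(.dead [1, 0]), (.branch 3 [(.dead [2, 1]), (.dead [2, 0]), (.dead [2, 0, 2, 0])]), (.dead [1, 0, 1, 0])]), (.branch 1 [(.branch 2 [(.dead [2, 1]), (.dead [2, 0]), (.dead [2, 1, 0])]), (.dead [1, 0]), (.dead [1, 0, 1, 0])]), (.branch 2 [(.dead [1, 0, 1, 0]), (.dead [1, 0, 1, 0]), (.dead [1, 0, 1, 0, 1, 0, 1, 0])])])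

theorem good : ∀ x ∈ certs, goodPair 3 2 false x.1 x.2 = true := by
  intro x hx
  simp only [certs, List.mem_cons, List.not_mem_nil, or_false] at hx
  rcases hx with rfl | rfl | rfl | rfl
  · exact good0
  · exact good1
  · exact good2
  · exact good3

theorem refuted : refute 3 2 (certs.map Prod.snd) [] tree = true := by decide +kernel

end Cfsg.Agent.H14.BaseTwoCert.S32
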