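import Cfsg.Agent.H94.BaseTwo.CertDefs

/-!
Pair certificates for the model with field size 3, width 3, minus = false.
Found by computer search; every entry is checked by evaluation in the kernel.
-/

set_option autoImplicit false
set_option maxRecDepth 100000
set_option maxHeartbeats 0

namespace Cfsg.Agent.H14.BaseTwoCert.S33

open Cfsg.Agent.H94.BaseTwo

/-- The pair number 0. -/
def pair0 : PairCert where
  gens := [⟨1, 1, 0, false⟩, ⟨1, 2, 0, false⟩, ⟨1, 4, 0, false⟩, ⟨1, 0, 1, false⟩]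
  v := (.node (.node (.node (.leaf 0) (.leaf 0)) (.node (.leaf 1) (.leaf 0))) (.node (.node (.leaf 0) (.leaf 2)) (.node (.leaf 0) (.leaf 2))))
  w := (.node (.node (.node (.leaf 2) (.leaf 2)) (.node (.leaf 0) (.leaf 0))) (.node (.node (.leaf 1) (.leaf 1)) (.node (.leaf 1) (.leaf 1))))
  rels := [[([(2, 1)], [(1, 1)])],
      [([(1, 0), (1, 2)], [(1, 1)])],
      [([(1, 1), (2, 2), (1, 4)], [(1, 0), (1, 4)]), ([(1, 0), (2, 1), (1, 2)], [(1, 1), (1, 5)])],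
      [([(1, 0), (2, 4)], [(2, 0), (1, 4)]), ([(1, 0), (2, 1), (2, 2), (1, 4)], [(2, 1), (1, 5)]), ([(1, 1), (1, 2), (2, 8), (2, 9)], [(2, 1), (1, 13)])]]
  span := [[(1, 0), (1, 4), (2, 16)],
      [(1, 0), (1, 1), (2, 16), (2, 17)],
      [(2, 0), (2, 16)],
      [(1, 0), (2, 1), (1, 2), (1, 4), (2, 16), (2, 17)],
      [(2, 0), (2, 1), (2, 2), (2, 8), (1, 16), (1, 17)],
      [(1, 1), (2, 2), (2, 4), (1, 8), (2, 9), (1, 16)],
      [(2, 0), (1, 2), (1, 4), (1, 8), (1, 16), (1, 17)],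
      [(1, 0), (2, 1), (1, 2), (1, 4), (2, 8), (1, 9), (1, 16)]]

/-- The nontrivial maps fixing the pair number 0. -/
def stab0 : List (List Vec) := [[(.node (.node (.node (.leaf 2) (.leaf 0)) (.node (.leaf 1) (.leaf 0))) (.node (.node (.leaf 0) (.leaf 2)) (.node (.leaf 0) (.leaf 2)))),
   (.node (.node (.node (.leaf 0) (.leaf 2)) (.node (.leaf 0) (.leaf 1))) (.node (.node (.leaf 2) (.leaf 0)) (.node (.leaf 2) (.leaf 0)))),
   (.node (.node (.node (.leaf 1) (.leaf 0)) (.node (.leaf 2) (.leaf 0))) (.node (.node (.leaf 0) (.leaf 2)) (.node (.leaf 0) (.leaf 2)))),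
   (.node (.node (.node (.leaf 0) (.leaf 1)) (.node (.leaf 0) (.leaf 2))) (.node (.node (.leaf 2) (.leaf 0)) (.node (.leaf 2) (.leaf 0)))),
   (.node (.node (.node (.leaf 0) (.leaf 2)) (.node (.leaf 0) (.leaf 2))) (.node (.node (.leaf 2) (.leaf 0)) (.node (.leaf 1) (.leaf 0)))),
   (.node (.node (.node (.leaf 2) (.leaf 0)) (.node (.leaf 2) (.leaf 0))) (.node (.node (.leaf 0) (.leaf 2)) (.node (.leaf 0) (.leaf 1)))),
   (.node (.node (.node (.leaf 0) (.leaf 2)) (.node (.leaf 0) (.leaf 2))) (.node (.node (.leaf 1) (.leaf 0)) (.node (.leaf 2) (.leaf 0)))),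
   (.node (.node (.node (.leaf 2) (.leaf 0)) (.node (.leaf 2) (.leaf 0))) (.node (.node (.leaf 0) (.leaf 1)) (.node (.leaf 0) (.leaf 2))))],
  [(.node (.node (.node (.leaf 1) (.leaf 0)) (.node (.leaf 0) (.leaf 0))) (.node (.node (.leaf 0) (.leaf 0)) (.node (.leaf 0) (.leaf 0)))),
   (.node (.node (.node (.leaf 0) (.leaf 1)) (.node (.leaf 0) (.leaf 0))) (.node (.node (.leaf 0) (.leaf 0)) (.node (.leaf 0) (.leaf 0)))),
   (.node (.node (.node (.leaf 0) (.leaf 0)) (.node (.leaf 1) (.leaf 0))) (.node (.node (.leaf 0) (.leaf 0)) (.node (.leaf 0) (.leaf 0)))),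
   (.node (.node (.node (.leaf 0) (.leaf 0)) (.node (.leaf 0) (.leaf 1))) (.node (.node (.leaf 0) (.leaf 0)) (.node (.leaf 0) (.leaf 0)))),
   (.node (.node (.node (.leaf 0) (.leaf 0)) (.node (.leaf 0) (.leaf 0))) (.node (.node (.leaf 0) (.leaf 0)) (.node (.leaf 1) (.leaf 0)))),
   (.node (.node (.node (.leaf 0) (.leaf 0)) (.node (.leaf 0) (.leaf 0))) (.node (.node (.leaf 0) (.leaf 0)) (.node (.leaf 0) (.leaf 1)))),
   (.node (.node (.node (.leaf 0) (.leaf 0)) (.node (.leaf 0) (.leaf 0))) (.node (.node (.leaf 1) (.leaf 0)) (.node (.leaf 0) (.leaf 0)))),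
   (.node (.node (.node (.leaf 0) (.leaf 0)) (.node (.leaf 0) (.leaf 0))) (.node (.node (.leaf 0) (.leaf 1)) (.node (.leaf 0) (.leaf 0))))],
  [(.node (.node (.node (.leaf 2) (.leaf 0)) (.node (.leaf 1) (.leaf 0))) (.node (.node (.leaf 0) (.leaf 2)) (.node (.leaf 0) (.leaf 2)))),
   (.node (.node (.node (.leaf 0) (.leaf 2)) (.node (.leaf 0) (.leaf 1))) (.node (.node (.leaf 2) (.leaf 0)) (.node (.leaf 2) (.leaf 0)))),
   (.node (.node (.node (.leaf 1) (.leaf 0)) (.node (.leaf 2) (.leaf 0))) (.node (.node (.leaf 0) (.leaf 2)) (.node (.leaf 0) (.leaf 2)))),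
   (.node (.node (.node (.leaf 0) (.leaf 1)) (.node (.leaf 0) (.leaf 2))) (.node (.node (.leaf 2) (.leaf 0)) (.node (.leaf 2) (.leaf 0)))),
   (.node (.node (.node (.leaf 0) (.leaf 2)) (.node (.leaf 0) (.leaf 2))) (.node (.node (.leaf 1) (.leaf 0)) (.node (.leaf 2) (.leaf 0)))),
   (.node (.node (.node (.leaf 2) (.leaf 0)) (.node (.leaf 2) (.leaf 0))) (.node (.node (.leaf 0) (.leaf 1)) (.node (.leaf 0) (.leaf 2)))),
   (.node (.node (.node (.leaf 0) (.leaf 2)) (.node (.leaf 0) (.leaf 2))) (.node (.node (.leaf 2) (.leaf 0)) (.node (.leaf 1) (.leaf 0)))),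
   (.node (.node (.node (.leaf 2) (.leaf 0)) (.node (.leaf 2) (.leaf 0))) (.node (.node (.leaf 0) (.leaf 2)) (.node (.leaf 0) (.leaf 1))))]]

theorem good0 : goodPair 3 3 false pair0 stab0 = true := by decide +kernel

/-- The pair number 1. -/
def pair1 : PairCert where
  gens := [⟨1, 0, 1, false⟩, ⟨1, 0, 2, false⟩, ⟨1, 0, 4, false⟩, ⟨1, 1, 0, false⟩]
  v := (.node (.node (.node (.leaf 2) (.leaf 0)) (.node (.leaf 1) (.leaf 0))) (.node (.node (.leaf 1) (.leaf 0)) (.node (.leaf 0) (.leaf 0))))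
  w := (.node (.node (.node (.leaf 2) (.leaf 2)) (.node (.leaf 2) (.leaf 0))) (.node (.node (.leaf 1) (.leaf 1)) (.node (.leaf 0) (.leaf 2))))
  rels := [[([(2, 0)], [(1, 0)])],
      [([(1, 1), (1, 3)], [(1, 0)])],
      [([(1, 0), (1, 1), (1, 3)], [(2, 0), (1, 4)]), ([(1, 0), (1, 3), (1, 5)], [(2, 1), (1, 5)])],
      [([(2, 1), (2, 5)], [(1, 1), (1, 5)]), ([(1, 0), (1, 1), (2, 3), (2, 5)], [(1, 0), (1, 4)]), ([(2, 0), (1, 3), (1, 8), (2, 9)], [(1, 0), (1, 12)])]]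
  span := [[(2, 1), (2, 3), (1, 8)],
      [(1, 0), (2, 3), (2, 8), (1, 9)],
      [(2, 0), (2, 1), (2, 3)],
      [(2, 0), (2, 1), (1, 3), (1, 5), (1, 16)],
      [(2, 0), (1, 8)],
      [(2, 0), (1, 1), (1, 3), (2, 5), (2, 8), (1, 9)],
      [(1, 0), (2, 3), (1, 5), (2, 16), (2, 17)],
      [(1, 0), (2, 1), (1, 3), (2, 5)]]

/-- The nontrivial maps fixing the pair number 1. -/
def stab1 : List (List Vec) := [[(.node (.node (.node (.leaf 1) (.leaf 0)) (.node (.leaf 0) (.leaf 0))) (.node (.node (.leaf 0) (.leaf 0)) (.node (.leaf 0) (.leaf 0)))),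
   (.node (.node (.node (.leaf 0) (.leaf 1)) (.node (.leaf 0) (.leaf 0))) (.node (.node (.leaf 0) (.leaf 0)) (.node (.leaf 0) (.leaf 0)))),
   (.node (.node (.node (.leaf 0) (.leaf 0)) (.node (.leaf 1) (.leaf 0))) (.node (.node (.leaf 0) (.leaf 0)) (.node (.leaf 0) (.leaf 0)))),
   (.node (.node (.node (.leaf 0) (.leaf 0)) (.node (.leaf 0) (.leaf 2))) (.node (.node (.leaf 0) (.leaf 0)) (.node (.leaf 0) (.leaf 0)))),
   (.node (.node (.node (.leaf 0) (.leaf 0)) (.node (.leaf 0) (.leaf 0))) (.node (.node (.leaf 1) (.leaf 0)) (.node (.leaf 0) (.leaf 0)))),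
   (.node (.node (.node (.leaf 0) (.leaf 0)) (.node (.leaf 0) (.leaf 0))) (.node (.node (.leaf 0) (.leaf 1)) (.node (.leaf 0) (.leaf 0)))),
   (.node (.node (.node (.leaf 0) (.leaf 0)) (.node (.leaf 0) (.leaf 0))) (.node (.node (.leaf 0) (.leaf 0)) (.node (.leaf 2) (.leaf 0)))),
   (.node (.node (.node (.leaf 0) (.leaf 0)) (.node (.leaf 0) (.leaf 0))) (.node (.node (.leaf 0) (.leaf 0)) (.node (.leaf 0) (.leaf 1))))],
  [(.node (.node (.node (.leaf 0) (.leaf 0)) (.node (.leaf 0) (.leaf 0))) (.node (.node (.leaf 2) (.leaf 0)) (.node (.leaf 0) (.leaf 0)))),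
   (.node (.node (.node (.leaf 0) (.leaf 0)) (.node (.leaf 0) (.leaf 0))) (.node (.node (.leaf 0) (.leaf 2)) (.node (.leaf 0) (.leaf 0)))),
   (.node (.node (.node (.leaf 0) (.leaf 0)) (.node (.leaf 1) (.leaf 0))) (.node (.node (.leaf 0) (.leaf 0)) (.node (.leaf 0) (.leaf 0)))),
   (.node (.node (.node (.leaf 0) (.leaf 0)) (.node (.leaf 0) (.leaf 1))) (.node (.node (.leaf 0) (.leaf 0)) (.node (.leaf 0) (.leaf 0)))),
   (.node (.node (.node (.leaf 2) (.leaf 0)) (.node (.leaf 0) (.leaf 0))) (.node (.node (.leaf 0) (.leaf 0)) (.node (.leaf 0) (.leaf 0)))),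
   (.node (.node (.node (.leaf 0) (.leaf 2)) (.node (.leaf 0) (.leaf 0))) (.node (.node (.leaf 0) (.leaf 0)) (.node (.leaf 0) (.leaf 0)))),
   (.node (.node (.node (.leaf 0) (.leaf 0)) (.node (.leaf 0) (.leaf 0))) (.node (.node (.leaf 0) (.leaf 0)) (.node (.leaf 1) (.leaf 0)))),
   (.node (.node (.node (.leaf 0) (.leaf 0)) (.node (.leaf 0) (.leaf 0))) (.node (.node (.leaf 0) (.leaf 0)) (.node (.leaf 0) (.leaf 1))))],
  [(.node (.node (.node (.leaf 0) (.leaf 0)) (.node (.leaf 0) (.leaf 0))) (.node (.node (.leaf 2) (.leaf 0)) (.node (.leaf 0) (.leaf 0)))),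
   (.node (.node (.node (.leaf 0) (.leaf 0)) (.node (.leaf 0) (.leaf 0))) (.node (.node (.leaf 0) (.leaf 2)) (.node (.leaf 0) (.leaf 0)))),
   (.node (.node (.node (.leaf 0) (.leaf 0)) (.node (.leaf 1) (.leaf 0))) (.node (.node (.leaf 0) (.leaf 0)) (.node (.leaf 0) (.leaf 0)))),
   (.node (.node (.node (.leaf 0) (.leaf 0)) (.node (.leaf 0) (.leaf 2))) (.node (.node (.leaf 0) (.leaf 0)) (.node (.leaf 0) (.leaf 0)))),
   (.node (.node (.node (.leaf 2) (.leaf 0)) (.node (.leaf 0) (.leaf 0))) (.node (.node (.leaf 0) (.leaf 0)) (.node (.leaf 0) (.leaf 0)))),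
   (.node (.node (.node (.leaf 0) (.leaf 2)) (.node (.leaf 0) (.leaf 0))) (.node (.node (.leaf 0) (.leaf 0)) (.node (.leaf 0) (.leaf 0)))),
   (.node (.node (.node (.leaf 0) (.leaf 0)) (.node (.leaf 0) (.leaf 0))) (.node (.node (.leaf 0) (.leaf 0)) (.node (.leaf 2) (.leaf 0)))),
   (.node (.node (.node (.leaf 0) (.leaf 0)) (.node (.leaf 0) (.leaf 0))) (.node (.node (.leaf 0) (.leaf 0)) (.node (.leaf 0) (.leaf 1))))]]

theorem good1 : goodPair 3 3 false pair1 stab1 = true := by decide +kernel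

/-- The pair number 2. -/
def pair2 : PairCert where
  gens := [⟨1, 0, 1, false⟩, ⟨1, 0, 2, false⟩, ⟨1, 0, 4, false⟩, ⟨1, 1, 0, false⟩]
  v := (.node (.node (.node (.leaf 1) (.leaf 0)) (.node (.leaf 1) (.leaf 0))) (.node (.node (.leaf 0) (.leaf 0)) (.node (.leaf 1) (.leaf 0))))
  w := (.node (.node (.node (.leaf 0) (.leaf 1)) (.node (.leaf 1) (.leaf 2))) (.node (.node (.leaf 2) (.leaf 0)) (.node (.leaf 1) (.leaf 2))))
  rels := [[([(2, 0)], [(1, 0)])],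
      [([(2, 0), (2, 1), (2, 3)], [(1, 0), (1, 1), (1, 3)])],
      [([(2, 0), (2, 4)], [(1, 0), (1, 4)]), ([(1, 1), (1, 3), (2, 4)], [(1, 0), (1, 1), (1, 3)]), ([(2, 3), (1, 4), (1, 5)], [(2, 0), (2, 1), (1, 7)])],
      [([(2, 0), (2, 1), (2, 3), (1, 4), (2, 5)], [(1, 0)]), ([(2, 4)], [(2, 1), (1, 3)])]]
  span := [[(2, 0), (2, 4)],
      [(2, 0), (1, 3), (1, 4), (2, 5)],
      [(1, 4), (2, 8)],
      [(2, 0), (1, 1), (1, 3), (2, 4), (2, 5), (2, 8), (1, 9)],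
      [(2, 0), (1, 1), (1, 3), (1, 4)],
      [(2, 0), (1, 1), (2, 4), (2, 5), (2, 17)],
      [(2, 0), (1, 8)],
      [(2, 3), (2, 4), (1, 8), (2, 9)]]

/-- The nontrivial maps fixing the pair number 2. -/
def stab2 : List (List Vec) := [[(.node (.node (.node (.leaf 1) (.leaf 0)) (.node (.leaf 0) (.leaf 0))) (.node (.node (.leaf 0) (.leaf 0)) (.node (.leaf 0) (.leaf 0)))),
   (.node (.node (.node (.leaf 0) (.leaf 1)) (.node (.leaf 0) (.leaf 0))) (.node (.node (.leaf 0) (.leaf 0)) (.node (.leaf 0) (.leaf 0)))),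
   (.node (.node (.node (.leaf 0) (.leaf 0)) (.node (.leaf 0) (.leaf 0))) (.node (.node (.leaf 0) (.leaf 0)) (.node (.leaf 1) (.leaf 0)))),
   (.node (.node (.node (.leaf 0) (.leaf 0)) (.node (.leaf 0) (.leaf 0))) (.node (.node (.leaf 0) (.leaf 0)) (.node (.leaf 0) (.leaf 1)))),
   (.node (.node (.node (.leaf 0) (.leaf 0)) (.node (.leaf 0) (.leaf 0))) (.node (.node (.leaf 1) (.leaf 0)) (.node (.leaf 0) (.leaf 0)))),
   (.node (.node (.node (.leaf 0) (.leaf 0)) (.node (.leaf 0) (.leaf 0))) (.node (.node (.leaf 0) (.leaf 1)) (.node (.leaf 0) (.leaf 0)))),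
   (.node (.node (.node (.leaf 0) (.leaf 0)) (.node (.leaf 1) (.leaf 0))) (.node (.node (.leaf 0) (.leaf 0)) (.node (.leaf 0) (.leaf 0)))),
   (.node (.node (.node (.leaf 0) (.leaf 0)) (.node (.leaf 0) (.leaf 1))) (.node (.node (.leaf 0) (.leaf 0)) (.node (.leaf 0) (.leaf 0))))],
  [(.node (.node (.node (.leaf 2) (.leaf 0)) (.node (.leaf 1) (.leaf 0))) (.node (.node (.leaf 2) (.leaf 0)) (.node (.leaf 1) (.leaf 0)))),
   (.node (.node (.node (.leaf 0) (.leaf 2)) (.node (.leaf 0) (.leaf 2))) (.node (.node (.leaf 0) (.leaf 2)) (.node (.leaf 0) (.leaf 2)))),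
   (.node (.node (.node (.leaf 1) (.leaf 0)) (.node (.leaf 2) (.leaf 0))) (.node (.node (.leaf 2) (.leaf 0)) (.node (.leaf 1) (.leaf 0)))),
   (.node (.node (.node (.leaf 0) (.leaf 2)) (.node (.leaf 0) (.leaf 2))) (.node (.node (.leaf 0) (.leaf 1)) (.node (.leaf 0) (.leaf 1)))),
   (.node (.node (.node (.leaf 2) (.leaf 0)) (.node (.leaf 2) (.leaf 0))) (.node (.node (.leaf 2) (.leaf 0)) (.node (.leaf 2) (.leaf 0)))),
   (.node (.node (.node (.leaf 0) (.leaf 2)) (.node (.leaf 0) (.leaf 1))) (.node (.node (.leaf 0) (.leaf 2)) (.node (.leaf 0) (.leaf 1)))),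
   (.node (.node (.node (.leaf 1) (.leaf 0)) (.node (.leaf 1) (.leaf 0))) (.node (.node (.leaf 2) (.leaf 0)) (.node (.leaf 2) (.leaf 0)))),
   (.node (.node (.node (.leaf 0) (.leaf 2)) (.node (.leaf 0) (.leaf 1))) (.node (.node (.leaf 0) (.leaf 1)) (.node (.leaf 0) (.leaf 2))))],
  [(.node (.node (.node (.leaf 2) (.leaf 0)) (.node (.leaf 1) (.leaf 0))) (.node (.node (.leaf 2) (.leaf 0)) (.node (.leaf 1) (.leaf 0)))),
   (.node (.node (.node (.leaf 0) (.leaf 2)) (.node (.leaf 0) (.leaf 2))) (.node (.node (.leaf 0) (.leaf 2)) (.node (.leaf 0) (.leaf 2)))),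
   (.node (.node (.node (.leaf 1) (.leaf 0)) (.node (.leaf 1) (.leaf 0))) (.node (.node (.leaf 2) (.leaf 0)) (.node (.leaf 2) (.leaf 0)))),
   (.node (.node (.node (.leaf 0) (.leaf 2)) (.node (.leaf 0) (.leaf 1))) (.node (.node (.leaf 0) (.leaf 1)) (.node (.leaf 0) (.leaf 2)))),
   (.node (.node (.node (.leaf 2) (.leaf 0)) (.node (.leaf 2) (.leaf 0))) (.node (.node (.leaf 2) (.leaf 0)) (.node (.leaf 2) (.leaf 0)))),
   (.node (.node (.node (.leaf 0) (.leaf 2)) (.node (.leaf 0) (.leaf 1))) (.node (.node (.leaf 0) (.leaf 2)) (.node (.leaf 0) (.leaf 1)))),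
   (.node (.node (.node (.leaf 1) (.leaf 0)) (.node (.leaf 2) (.leaf 0))) (.node (.node (.leaf 2) (.leaf 0)) (.node (.leaf 1) (.leaf 0)))),
   (.node (.node (.node (.leaf 0) (.leaf 2)) (.node (.leaf 0) (.leaf 2))) (.node (.node (.leaf 0) (.leaf 1)) (.node (.leaf 0) (.leaf 1))))]]

theorem good2 : goodPair 3 3 false pair2 stab2 = true := by decide +kernel

/-- The pair number 3. -/
def pair3 : PairCert where
  gens := [⟨1, 0, 1, false⟩, ⟨1, 0, 2, false⟩, ⟨1, 0, 4, false⟩, ⟨1, 1, 0, false⟩, ⟨1, 2, 0, false⟩]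
  v := (.node (.node (.node (.leaf 1) (.leaf 2)) (.node (.leaf 1) (.leaf 0))) (.node (.node (.leaf 1) (.leaf 0)) (.node (.leaf 0) (.leaf 0))))
  w := (.node (.node (.node (.leaf 0) (.leaf 1)) (.node (.leaf 0) (.leaf 1))) (.node (.node (.leaf 0) (.leaf 0)) (.node (.leaf 0) (.leaf 2))))
  rels := [[([(1, 1)], [(1, 1)])],
      [([(1, 0), (1, 1), (2, 2)], [(1, 1)])],
      [([(1, 0), (2, 2)], [(2, 0), (1, 2)]), ([(1, 0), (2, 4)], [(2, 0), (1, 4)])],
      [([(2, 2), (2, 8)], [(1, 1), (1, 9)]), ([(2, 1), (2, 9)], [(1, 0), (1, 10)]), ([(1, 4), (1, 8)], [(1, 0), (1, 12)])],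
      [([(2, 0), (2, 1), (2, 8), (2, 9), (1, 17)], [(1, 0)])]]
  span := [[(1, 0), (2, 2), (2, 4), (2, 8)],
      [(1, 0), (2, 2)],
      [(2, 0), (1, 4)],
      [(2, 0), (2, 1), (1, 2), (2, 9)],
      [(2, 0), (1, 8)],
      [(1, 0), (1, 1), (2, 2), (2, 4), (2, 8), (1, 9), (1, 16)],
      [(2, 2), (2, 8), (2, 17)],
      [(1, 1), (2, 9)]]

/-- The nontrivial maps fixing the pair number 3. -/
def stab3 : List (List Vec) := [[(.node (.node (.node (.leaf 1) (.leaf 0)) (.node (.leaf 0) (.leaf 0))) (.node (.node (.leaf 0) (.leaf 0)) (.node (.leaf 0) (.leaf 0)))),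
   (.node (.node (.node (.leaf 0) (.leaf 1)) (.node (.leaf 0) (.leaf 0))) (.node (.node (.leaf 0) (.leaf 0)) (.node (.leaf 0) (.leaf 0)))),
   (.node (.node (.node (.leaf 0) (.leaf 0)) (.node (.leaf 1) (.leaf 0))) (.node (.node (.leaf 0) (.leaf 0)) (.node (.leaf 0) (.leaf 0)))),
   (.node (.node (.node (.leaf 0) (.leaf 0)) (.node (.leaf 0) (.leaf 1))) (.node (.node (.leaf 0) (.leaf 0)) (.node (.leaf 0) (.leaf 0)))),
   (.node (.node (.node (.leaf 0) (.leaf 0)) (.node (.leaf 0) (.leaf 0))) (.node (.node (.leaf 1) (.leaf 0)) (.node (.leaf 0) (.leaf 0)))),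
   (.node (.node (.node (.leaf 0) (.leaf 0)) (.node (.leaf 0) (.leaf 0))) (.node (.node (.leaf 0) (.leaf 2)) (.node (.leaf 0) (.leaf 0)))),
   (.node (.node (.node (.leaf 0) (.leaf 0)) (.node (.leaf 0) (.leaf 0))) (.node (.node (.leaf 0) (.leaf 0)) (.node (.leaf 2) (.leaf 0)))),
   (.node (.node (.node (.leaf 0) (.leaf 0)) (.node (.leaf 0) (.leaf 0))) (.node (.node (.leaf 0) (.leaf 0)) (.node (.leaf 0) (.leaf 1))))],
  [(.node (.node (.node (.leaf 0) (.leaf 0)) (.node (.leaf 0) (.leaf 0))) (.node (.node (.leaf 1) (.leaf 0)) (.node (.leaf 0) (.leaf 0)))),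
   (.node (.node (.node (.leaf 0) (.leaf 1)) (.node (.leaf 0) (.leaf 0))) (.node (.node (.leaf 0) (.leaf 0)) (.node (.leaf 0) (.leaf 0)))),
   (.node (.node (.node (.leaf 0) (.leaf 0)) (.node (.leaf 1) (.leaf 0))) (.node (.node (.leaf 0) (.leaf 0)) (.node (.leaf 0) (.leaf 0)))),
   (.node (.node (.node (.leaf 0) (.leaf 0)) (.node (.leaf 0) (.leaf 0))) (.node (.node (.leaf 0) (.leaf 0)) (.node (.leaf 0) (.leaf 2)))),
   (.node (.node (.node (.leaf 1) (.leaf 0)) (.node (.leaf 0) (.leaf 0))) (.node (.node (.leaf 0) (.leaf 0)) (.node (.leaf 0) (.leaf 0)))),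
   (.node (.node (.node (.leaf 0) (.leaf 0)) (.node (.leaf 0) (.leaf 0))) (.node (.node (.leaf 0) (.leaf 1)) (.node (.leaf 0) (.leaf 0)))),
   (.node (.node (.node (.leaf 0) (.leaf 0)) (.node (.leaf 0) (.leaf 0))) (.node (.node (.leaf 0) (.leaf 0)) (.node (.leaf 1) (.leaf 0)))),
   (.node (.node (.node (.leaf 0) (.leaf 0)) (.node (.leaf 0) (.leaf 2))) (.node (.node (.leaf 0) (.leaf 0)) (.node (.leaf 0) (.leaf 0))))],
  [(.node (.node (.node (.leaf 0) (.leaf 0)) (.node (.leaf 0) (.leaf 0))) (.node (.node (.leaf 1) (.leaf 0)) (.node (.leaf 0) (.leaf 0)))),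
   (.node (.node (.node (.leaf 0) (.leaf 1)) (.node (.leaf 0) (.leaf 0))) (.node (.node (.leaf 0) (.leaf 0)) (.node (.leaf 0) (.leaf 0)))),
   (.node (.node (.node (.leaf 0) (.leaf 0)) (.node (.leaf 1) (.leaf 0))) (.node (.node (.leaf 0) (.leaf 0)) (.node (.leaf 0) (.leaf 0)))),
   (.node (.node (.node (.leaf 0) (.leaf 0)) (.node (.leaf 0) (.leaf 0))) (.node (.node (.leaf 0) (.leaf 0)) (.node (.leaf 0) (.leaf 2)))),
   (.node (.node (.node (.leaf 1) (.leaf 0)) (.node (.leaf 0) (.leaf 0))) (.node (.node (.leaf 0) (.leaf 0)) (.node (.leaf 0) (.leaf 0)))),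
   (.node (.node (.node (.leaf 0) (.leaf 0)) (.node (.leaf 0) (.leaf 0))) (.node (.node (.leaf 0) (.leaf 2)) (.node (.leaf 0) (.leaf 0)))),
   (.node (.node (.node (.leaf 0) (.leaf 0)) (.node (.leaf 0) (.leaf 0))) (.node (.node (.leaf 0) (.leaf 0)) (.node (.leaf 2) (.leaf 0)))),
   (.node (.node (.node (.leaf 0) (.leaf 0)) (.node (.leaf 0) (.leaf 2))) (.node (.node (.leaf 0) (.leaf 0)) (.node (.leaf 0) (.leaf 0))))]]

theorem good3 : goodPair 3 3 false pair3 stab3 = true := by decide +kernel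

/-- The pair number 4. -/
def pair4 : PairCert where
  gens := [⟨1, 0, 4, false⟩, ⟨1, 1, 0, false⟩, ⟨1, 2, 0, false⟩, ⟨1, 4, 0, false⟩]
  v := (.node (.node (.node (.leaf 0) (.leaf 2)) (.node (.leaf 2) (.leaf 1))) (.node (.node (.leaf 0) (.leaf 0)) (.node (.leaf 0) (.leaf 2))))
  w := (.node (.node (.node (.leaf 0) (.leaf 0)) (.node (.leaf 0) (.leaf 0))) (.node (.node (.leaf 1) (.leaf 1)) (.node (.leaf 0) (.leaf 2))))
  rels := [[([(1, 1)], [(1, 1)])],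
      [([(1, 0), (1, 1), (2, 2)], [(2, 0), (2, 1), (1, 2)])],
      [([(2, 1), (2, 5)], [(1, 1), (1, 5)]), ([(1, 0), (1, 1), (2, 4)], [(2, 0), (2, 1), (1, 4)]), ([(1, 1), (1, 2), (2, 4), (1, 5)], [(2, 0), (1, 6)])],
      [([(2, 4), (1, 9)], [(2, 0), (1, 13)]), ([(2, 0), (1, 8), (1, 9)], [(1, 0), (1, 5)])]]
  span := [[(1, 2), (1, 4), (1, 8), (2, 16)],
      [(2, 1), (1, 2), (1, 4), (1, 5), (2, 8), (1, 16)],
      [(2, 0), (2, 1), (2, 2), (2, 4), (1, 5), (1, 8), (1, 9), (1, 16)],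
      [(1, 0), (1, 1), (2, 2), (2, 5), (1, 9), (2, 16)],
      [(2, 0), (1, 2), (1, 5), (1, 9)],
      [(2, 0), (1, 1), (1, 2), (2, 5), (2, 9)],
      [(1, 0), (1, 1), (2, 2), (2, 5)],
      [(1, 0), (2, 2)]]

/-- The nontrivial maps fixing the pair number 4. -/
def stab4 : List (List Vec) := [[(.node (.node (.node (.leaf 1) (.leaf 0)) (.node (.leaf 0) (.leaf 0))) (.node (.node (.leaf 0) (.leaf 0)) (.node (.leaf 0) (.leaf 0)))),
   (.node (.node (.node (.leaf 0) (.leaf 1)) (.node (.leaf 0) (.leaf 0))) (.node (.node (.leaf 0) (.leaf 0)) (.node (.leaf 0) (.leaf 0)))),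
   (.node (.node (.node (.leaf 0) (.leaf 0)) (.node (.leaf 0) (.leaf 2))) (.node (.node (.leaf 0) (.leaf 0)) (.node (.leaf 0) (.leaf 0)))),
   (.node (.node (.node (.leaf 0) (.leaf 0)) (.node (.leaf 2) (.leaf 0))) (.node (.node (.leaf 0) (.leaf 0)) (.node (.leaf 0) (.leaf 0)))),
   (.node (.node (.node (.leaf 0) (.leaf 0)) (.node (.leaf 0) (.leaf 0))) (.node (.node (.leaf 0) (.leaf 1)) (.node (.leaf 0) (.leaf 0)))),
   (.node (.node (.node (.leaf 0) (.leaf 0)) (.node (.leaf 0) (.leaf 0))) (.node (.node (.leaf 1) (.leaf 0)) (.node (.leaf 0) (.leaf 0)))),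
   (.node (.node (.node (.leaf 0) (.leaf 0)) (.node (.leaf 0) (.leaf 0))) (.node (.node (.leaf 0) (.leaf 0)) (.node (.leaf 1) (.leaf 0)))),
   (.node (.node (.node (.leaf 0) (.leaf 0)) (.node (.leaf 0) (.leaf 0))) (.node (.node (.leaf 0) (.leaf 0)) (.node (.leaf 0) (.leaf 1))))],
  [(.node (.node (.node (.leaf 2) (.leaf 0)) (.node (.leaf 0) (.leaf 0))) (.node (.node (.leaf 0) (.leaf 0)) (.node (.leaf 0) (.leaf 0)))),
   (.node (.node (.node (.leaf 0) (.leaf 1)) (.node (.leaf 0) (.leaf 0))) (.node (.node (.leaf 0) (.leaf 0)) (.node (.leaf 0) (.leaf 0)))),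
   (.node (.node (.node (.leaf 0) (.leaf 0)) (.node (.leaf 0) (.leaf 2))) (.node (.node (.leaf 0) (.leaf 0)) (.node (.leaf 0) (.leaf 0)))),
   (.node (.node (.node (.leaf 0) (.leaf 0)) (.node (.leaf 2) (.leaf 0))) (.node (.node (.leaf 0) (.leaf 0)) (.node (.leaf 0) (.leaf 0)))),
   (.node (.node (.node (.leaf 0) (.leaf 0)) (.node (.leaf 0) (.leaf 0))) (.node (.node (.leaf 0) (.leaf 1)) (.node (.leaf 0) (.leaf 0)))),
   (.node (.node (.node (.leaf 0) (.leaf 0)) (.node (.leaf 0) (.leaf 0))) (.node (.node (.leaf 1) (.leaf 0)) (.node (.leaf 0) (.leaf 0)))),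
   (.node (.node (.node (.leaf 0) (.leaf 0)) (.node (.leaf 0) (.leaf 0))) (.node (.node (.leaf 0) (.leaf 0)) (.node (.leaf 2) (.leaf 0)))),
   (.node (.node (.node (.leaf 0) (.leaf 0)) (.node (.leaf 0) (.leaf 0))) (.node (.node (.leaf 0) (.leaf 0)) (.node (.leaf 0) (.leaf 1))))],
  [(.node (.node (.node (.leaf 2) (.leaf 0)) (.node (.leaf 0) (.leaf 0))) (.node (.node (.leaf 0) (.leaf 0)) (.node (.leaf 0) (.leaf 0)))),
   (.node (.node (.node (.leaf 0) (.leaf 1)) (.node (.leaf 0) (.leaf 0))) (.node (.node (.leaf 0) (.leaf 0)) (.node (.leaf 0) (.leaf 0)))),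
   (.node (.node (.node (.leaf 0) (.leaf 0)) (.node (.leaf 1) (.leaf 0))) (.node (.node (.leaf 0) (.leaf 0)) (.node (.leaf 0) (.leaf 0)))),
   (.node (.node (.node (.leaf 0) (.leaf 0)) (.node (.leaf 0) (.leaf 1))) (.node (.node (.leaf 0) (.leaf 0)) (.node (.leaf 0) (.leaf 0)))),
   (.node (.node (.node (.leaf 0) (.leaf 0)) (.node (.leaf 0) (.leaf 0))) (.node (.node (.leaf 1) (.leaf 0)) (.node (.leaf 0) (.leaf 0)))),
   (.node (.node (.node (.leaf 0) (.leaf 0)) (.node (.leaf 0) (.leaf 0))) (.node (.node (.leaf 0) (.leaf 1)) (.node (.leaf 0) (.leaf 0)))),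
   (.node (.node (.node (.leaf 0) (.leaf 0)) (.node (.leaf 0) (.leaf 0))) (.node (.node (.leaf 0) (.leaf 0)) (.node (.leaf 2) (.leaf 0)))),
   (.node (.node (.node (.leaf 0) (.leaf 0)) (.node (.leaf 0) (.leaf 0))) (.node (.node (.leaf 0) (.leaf 0)) (.node (.leaf 0) (.leaf 1))))]]

theorem good4 : goodPair 3 3 false pair4 stab4 = true := by decide +kernel

/-- The certified pairs with their stabilisers. -/
def certs : List (PairCert × List (List Vec)) := [(pair0, stab0), (pair1, stab1), (pair2, stab2), (pair3, stab3), (pair4, stab4)]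

/-- The branch tree over the stabilisers. -/
def tree : Tree := (.branch 0 [(.branch 3 [(.dead [1, 0]), (.dead [1, 0]), (.branch 1 [(.dead [1, 2, 1, 0]), (.dead [1, 2, 1, 0]), (.dead [1, 2, 0, 2, 1, 0])])]), (.branch 1 [(.branch 2 [(.dead [2, 0]), (.dead [2, 1]), (.dead [2, 0, 2, 0])]), (.dead [1, 0]), (.dead [1, 0, 1, 0])]), (.branch 4 [(.dead [1, 0, 1, 0]), (.dead [1, 0, 1, 0, 1, 0, 1, 0, 1, 0, 1, 0, 1, 0, 1, 0]), (.dead [1, 0, 1, 0])])])

theorem good : ∀ x ∈ certs, goodPair 3 3 false x.1 x.2 = true := by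
  intro x hx
  simp only [certs, List.mem_cons, List.not_mem_nil, or_false] at hx
  rcases hx with rfl | rfl | rfl | rfl | rfl
  · exact good0
  · exact good1
  · exact good2
  · exact good3
  · exact good4

theorem refuted : refute 3 3 (certs.map Prod.snd) [] tree = true := by decide +kernel

end Cfsg.Agent.H14.BaseTwoCert.S33
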