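import Cfsg.Agent.H94.BaseTwo.CertDefs

/-!
Pair certificates for the model with field size 3, width 3, minus = true.
Found by computer search; every entry is checked by evaluation in the kernel.
-/

set_option autoImplicit false
set_option maxRecDepth 100000
set_option maxHeartbeats 0

namespace Cfsg.Agent.H14.BaseTwoCert.S33m

open Cfsg.Agent.H94.BaseTwo

/-- The pair number 0. -/
def pair0 : PairCert where
  gens := [⟨1, 0, 2, false⟩, ⟨1, 4, 0, false⟩, ⟨1, 2, 0, false⟩, ⟨1, 0, 4, false⟩]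
  v := (.node (.node (.node (.leaf 1) (.leaf 0)) (.node (.leaf 0) (.leaf 0))) (.node (.node (.leaf 0) (.leaf 0)) (.node (.leaf 0) (.leaf 0))))
  w := (.node (.node (.node (.leaf 0) (.leaf 2)) (.node (.leaf 1) (.leaf 0))) (.node (.node (.leaf 2) (.leaf 2)) (.node (.leaf 1) (.leaf 0))))
  rels := [[([(2, 0)], [(1, 0)])],
      [([(1, 0), (2, 1)], [(2, 0), (1, 1)]), ([(1, 0), (2, 3)], [(2, 0), (1, 3)])],
      [([(2, 0), (2, 4)], [(2, 1), (1, 3)]), ([(1, 1), (2, 3)], [(1, 0), (1, 4)])],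
      [([(2, 0)], [(1, 0)]), ([(1, 4)], [(1, 4)]), ([(2, 8)], [(1, 8)])]]
  span := [[(1, 0)],
      [(1, 1), (1, 8), (1, 17)],
      [(1, 8)],
      [(1, 0), (1, 9), (1, 25)],
      [(1, 4)],
      [(1, 3), (2, 4), (2, 8), (2, 17)],
      [(2, 1), (1, 3), (2, 8)],
      [(1, 1), (2, 3), (1, 4), (1, 8), (1, 9), (2, 25)]]

/-- The nontrivial maps fixing the pair number 0. -/
def stab0 : List (List Vec) := [[(.node (.node (.node (.leaf 1) (.leaf 0)) (.node (.leaf 0) (.leaf 0))) (.node (.node (.leaf 0) (.leaf 0)) (.node (.leaf 0) (.leaf 0)))),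
   (.node (.node (.node (.leaf 0) (.leaf 1)) (.node (.leaf 0) (.leaf 0))) (.node (.node (.leaf 0) (.leaf 0)) (.node (.leaf 0) (.leaf 0)))),
   (.node (.node (.node (.leaf 0) (.leaf 0)) (.node (.leaf 0) (.leaf 0))) (.node (.node (.leaf 0) (.leaf 0)) (.node (.leaf 1) (.leaf 0)))),
   (.node (.node (.node (.leaf 0) (.leaf 0)) (.node (.leaf 0) (.leaf 0))) (.node (.node (.leaf 0) (.leaf 0)) (.node (.leaf 0) (.leaf 1)))),
   (.node (.node (.node (.leaf 0) (.leaf 0)) (.node (.leaf 0) (.leaf 0))) (.node (.node (.leaf 1) (.leaf 0)) (.node (.leaf 0) (.leaf 0)))),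
   (.node (.node (.node (.leaf 0) (.leaf 0)) (.node (.leaf 0) (.leaf 0))) (.node (.node (.leaf 0) (.leaf 1)) (.node (.leaf 0) (.leaf 0)))),
   (.node (.node (.node (.leaf 0) (.leaf 0)) (.node (.leaf 1) (.leaf 0))) (.node (.node (.leaf 0) (.leaf 0)) (.node (.leaf 0) (.leaf 0)))),
   (.node (.node (.node (.leaf 0) (.leaf 0)) (.node (.leaf 0) (.leaf 1))) (.node (.node (.leaf 0) (.leaf 0)) (.node (.leaf 0) (.leaf 0))))],
  [(.node (.node (.node (.leaf 1) (.leaf 0)) (.node (.leaf 0) (.leaf 0))) (.node (.node (.leaf 0) (.leaf 0)) (.node (.leaf 0) (.leaf 0)))),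
   (.node (.node (.node (.leaf 0) (.leaf 1)) (.node (.leaf 0) (.leaf 0))) (.node (.node (.leaf 0) (.leaf 0)) (.node (.leaf 0) (.leaf 0)))),
   (.node (.node (.node (.leaf 0) (.leaf 0)) (.node (.leaf 0) (.leaf 0))) (.node (.node (.leaf 0) (.leaf 0)) (.node (.leaf 1) (.leaf 0)))),
   (.node (.node (.node (.leaf 0) (.leaf 0)) (.node (.leaf 0) (.leaf 0))) (.node (.node (.leaf 0) (.leaf 0)) (.node (.leaf 0) (.leaf 1)))),
   (.node (.node (.node (.leaf 0) (.leaf 0)) (.node (.leaf 1) (.leaf 1))) (.node (.node (.leaf 0) (.leaf 0)) (.node (.leaf 0) (.leaf 0)))),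
   (.node (.node (.node (.leaf 0) (.leaf 0)) (.node (.leaf 1) (.leaf 2))) (.node (.node (.leaf 0) (.leaf 0)) (.node (.leaf 0) (.leaf 0)))),
   (.node (.node (.node (.leaf 0) (.leaf 0)) (.node (.leaf 0) (.leaf 0))) (.node (.node (.leaf 2) (.leaf 2)) (.node (.leaf 0) (.leaf 0)))),
   (.node (.node (.node (.leaf 0) (.leaf 0)) (.node (.leaf 0) (.leaf 0))) (.node (.node (.leaf 2) (.leaf 1)) (.node (.leaf 0) (.leaf 0))))],
  [(.node (.node (.node (.leaf 1) (.leaf 0)) (.node (.leaf 0) (.leaf 0))) (.node (.node (.leaf 0) (.leaf 0)) (.node (.leaf 0) (.leaf 0)))),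
   (.node (.node (.node (.leaf 0) (.leaf 1)) (.node (.leaf 0) (.leaf 0))) (.node (.node (.leaf 0) (.leaf 0)) (.node (.leaf 0) (.leaf 0)))),
   (.node (.node (.node (.leaf 0) (.leaf 0)) (.node (.leaf 0) (.leaf 0))) (.node (.node (.leaf 2) (.leaf 2)) (.node (.leaf 0) (.leaf 0)))),
   (.node (.node (.node (.leaf 0) (.leaf 0)) (.node (.leaf 0) (.leaf 0))) (.node (.node (.leaf 2) (.leaf 1)) (.node (.leaf 0) (.leaf 0)))),
   (.node (.node (.node (.leaf 0) (.leaf 0)) (.node (.leaf 1) (.leaf 1))) (.node (.node (.leaf 0) (.leaf 0)) (.node (.leaf 0) (.leaf 0)))),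
   (.node (.node (.node (.leaf 0) (.leaf 0)) (.node (.leaf 1) (.leaf 2))) (.node (.node (.leaf 0) (.leaf 0)) (.node (.leaf 0) (.leaf 0)))),
   (.node (.node (.node (.leaf 0) (.leaf 0)) (.node (.leaf 0) (.leaf 0))) (.node (.node (.leaf 0) (.leaf 0)) (.node (.leaf 1) (.leaf 0)))),
   (.node (.node (.node (.leaf 0) (.leaf 0)) (.node (.leaf 0) (.leaf 0))) (.node (.node (.leaf 0) (.leaf 0)) (.node (.leaf 0) (.leaf 1))))],
  [(.node (.node (.node (.leaf 1) (.leaf 0)) (.node (.leaf 0) (.leaf 0))) (.node (.node (.leaf 0) (.leaf 0)) (.node (.leaf 0) (.leaf 0)))),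
   (.node (.node (.node (.leaf 0) (.leaf 1)) (.node (.leaf 0) (.leaf 0))) (.node (.node (.leaf 0) (.leaf 0)) (.node (.leaf 0) (.leaf 0)))),
   (.node (.node (.node (.leaf 0) (.leaf 0)) (.node (.leaf 1) (.leaf 0))) (.node (.node (.leaf 0) (.leaf 0)) (.node (.leaf 0) (.leaf 0)))),
   (.node (.node (.node (.leaf 0) (.leaf 0)) (.node (.leaf 0) (.leaf 1))) (.node (.node (.leaf 0) (.leaf 0)) (.node (.leaf 0) (.leaf 0)))),
   (.node (.node (.node (.leaf 0) (.leaf 0)) (.node (.leaf 0) (.leaf 0))) (.node (.node (.leaf 0) (.leaf 0)) (.node (.leaf 1) (.leaf 1)))),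
   (.node (.node (.node (.leaf 0) (.leaf 0)) (.node (.leaf 0) (.leaf 0))) (.node (.node (.leaf 0) (.leaf 0)) (.node (.leaf 1) (.leaf 2)))),
   (.node (.node (.node (.leaf 0) (.leaf 0)) (.node (.leaf 0) (.leaf 0))) (.node (.node (.leaf 2) (.leaf 2)) (.node (.leaf 0) (.leaf 0)))),
   (.node (.node (.node (.leaf 0) (.leaf 0)) (.node (.leaf 0) (.leaf 0))) (.node (.node (.leaf 2) (.leaf 1)) (.node (.leaf 0) (.leaf 0))))],
  [(.node (.node (.node (.leaf 1) (.leaf 0)) (.node (.leaf 0) (.leaf 0))) (.node (.node (.leaf 0) (.leaf 0)) (.node (.leaf 0) (.leaf 0)))),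
   (.node (.node (.node (.leaf 0) (.leaf 1)) (.node (.leaf 0) (.leaf 0))) (.node (.node (.leaf 0) (.leaf 0)) (.node (.leaf 0) (.leaf 0)))),
   (.node (.node (.node (.leaf 0) (.leaf 0)) (.node (.leaf 0) (.leaf 0))) (.node (.node (.leaf 2) (.leaf 2)) (.node (.leaf 0) (.leaf 0)))),
   (.node (.node (.node (.leaf 0) (.leaf 0)) (.node (.leaf 0) (.leaf 0))) (.node (.node (.leaf 2) (.leaf 1)) (.node (.leaf 0) (.leaf 0)))),
   (.node (.node (.node (.leaf 0) (.leaf 0)) (.node (.leaf 0) (.leaf 0))) (.node (.node (.leaf 0) (.leaf 0)) (.node (.leaf 1) (.leaf 1)))),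
   (.node (.node (.node (.leaf 0) (.leaf 0)) (.node (.leaf 0) (.leaf 0))) (.node (.node (.leaf 0) (.leaf 0)) (.node (.leaf 1) (.leaf 2)))),
   (.node (.node (.node (.leaf 0) (.leaf 0)) (.node (.leaf 1) (.leaf 0))) (.node (.node (.leaf 0) (.leaf 0)) (.node (.leaf 0) (.leaf 0)))),
   (.node (.node (.node (.leaf 0) (.leaf 0)) (.node (.leaf 0) (.leaf 1))) (.node (.node (.leaf 0) (.leaf 0)) (.node (.leaf 0) (.leaf 0))))]]

theorem good0 : goodPair 3 3 true pair0 stab0 = true := by decide +kernel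

/-- The pair number 1. -/
def pair1 : PairCert where
  gens := [⟨1, 0, 4, false⟩, ⟨1, 0, 2, false⟩, ⟨1, 2, 0, false⟩, ⟨1, 0, 0, true⟩]
  v := (.node (.node (.node (.leaf 2) (.leaf 0)) (.node (.leaf 0) (.leaf 0))) (.node (.node (.leaf 0) (.leaf 2)) (.node (.leaf 2) (.leaf 0))))
  w := (.node (.node (.node (.leaf 0) (.leaf 2)) (.node (.leaf 1) (.leaf 0))) (.node (.node (.leaf 0) (.leaf 1)) (.node (.leaf 0) (.leaf 0))))
  rels := [[],
      [([(1, 1), (2, 2), (2, 3)], [(1, 0)])],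
      [([(1, 1), (2, 5)], [(1, 0), (1, 2)]), ([(2, 0), (2, 2)], [(2, 1), (1, 5)])],
      [([(2, 0), (2, 3), (2, 8)], [(1, 0)])]]
  span := [[(1, 0), (1, 2)],
      [(1, 3), (1, 5)],
      [(2, 1), (1, 5)],
      [(1, 0), (1, 2), (1, 9), (1, 11)],
      [(1, 1), (2, 5), (2, 8), (1, 9), (2, 11)],
      [(2, 1), (1, 3)],
      [(1, 0), (1, 1), (2, 2), (2, 3)],
      [(2, 9), (1, 11)]]

/-- The nontrivial maps fixing the pair number 1. -/
def stab1 : List (List Vec) := [[(.node (.node (.node (.leaf 2) (.leaf 0)) (.node (.leaf 2) (.leaf 0))) (.node (.node (.leaf 1) (.leaf 2)) (.node (.leaf 2) (.leaf 1)))),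
   (.node (.node (.node (.leaf 0) (.leaf 2)) (.node (.leaf 0) (.leaf 2))) (.node (.node (.leaf 2) (.leaf 2)) (.node (.leaf 1) (.leaf 1)))),
   (.node (.node (.node (.leaf 2) (.leaf 0)) (.node (.leaf 2) (.leaf 0))) (.node (.node (.leaf 2) (.leaf 1)) (.node (.leaf 1) (.leaf 2)))),
   (.node (.node (.node (.leaf 0) (.leaf 2)) (.node (.leaf 0) (.leaf 2))) (.node (.node (.leaf 1) (.leaf 1)) (.node (.leaf 2) (.leaf 2)))),
   (.node (.node (.node (.leaf 2) (.leaf 1)) (.node (.leaf 1) (.leaf 2))) (.node (.node (.leaf 2) (.leaf 0)) (.node (.leaf 2) (.leaf 0)))),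
   (.node (.node (.node (.leaf 1) (.leaf 1)) (.node (.leaf 2) (.leaf 2))) (.node (.node (.leaf 0) (.leaf 2)) (.node (.leaf 0) (.leaf 2)))),
   (.node (.node (.node (.leaf 1) (.leaf 2)) (.node (.leaf 2) (.leaf 1))) (.node (.node (.leaf 2) (.leaf 0)) (.node (.leaf 2) (.leaf 0)))),
   (.node (.node (.node (.leaf 2) (.leaf 2)) (.node (.leaf 1) (.leaf 1))) (.node (.node (.leaf 0) (.leaf 2)) (.node (.leaf 0) (.leaf 2))))]]

theorem good1 : goodPair 3 3 true pair1 stab1 = true := by decide +kernel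

/-- The certified pairs with their stabilisers. -/
def certs : List (PairCert × List (List Vec)) := [(pair0, stab0), (pair1, stab1)]

/-- The branch tree over the stabilisers. -/
def tree : Tree := (.branch 1 [(.branch 0 [(.dead [1, 0]), (.dead [1]), (.dead [1, 0]), (.dead [1, 0]), (.dead [1])])])

theorem good : ∀ x ∈ certs, goodPair 3 3 true x.1 x.2 = true := by
  intro x hx
  simp only [certs, List.mem_cons, List.not_mem_nil, or_false] at hx
  rcases hx with rfl | rfl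
  · exact good0
  · exact good1

theorem refuted : refute 3 3 (certs.map Prod.snd) [] tree = true := by decide +kernel

end Cfsg.Agent.H14.BaseTwoCert.S33m
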