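import Cfsg.Agent.H94.BaseTwo.CertDefs

/-!
Pair certificates for the model with field size 3, width 4, minus = false.
Found by computer search; every entry is checked by evaluation in the kernel.
-/

set_option autoImplicit false
set_option maxRecDepth 100000
set_option maxHeartbeats 0

namespace Cfsg.Agent.H14.BaseTwoCert.S34

open Cfsg.Agent.H94.BaseTwo

/-- The pair number 0. -/
def pair0 : PairCert where
  gens := [⟨1, 0, 1, false⟩, ⟨1, 0, 2, false⟩, ⟨1, 0, 4, false⟩, ⟨1, 0, 8, false⟩, ⟨1, 2, 0, false⟩, ⟨1, 4, 0, false⟩]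
  v := (.node (.node (.node (.node (.leaf 0) (.leaf 0)) (.node (.leaf 0) (.leaf 0))) (.node (.node (.leaf 0) (.leaf 1)) (.node (.leaf 0) (.leaf 2)))) (.node (.node (.node (.leaf 0) (.leaf 1)) (.node (.leaf 0) (.leaf 0))) (.node (.node (.leaf 0) (.leaf 0)) (.node (.leaf 0) (.leaf 0)))))
  w := (.node (.node (.node (.node (.leaf 1) (.leaf 0)) (.node (.leaf 0) (.leaf 1))) (.node (.node (.leaf 2) (.leaf 0)) (.node (.leaf 2) (.leaf 2)))) (.node (.node (.node (.leaf 2) (.leaf 0)) (.node (.leaf 0) (.leaf 2))) (.node (.node (.leaf 0) (.leaf 0)) (.node (.leaf 1) (.leaf 0)))))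
  rels := [[([(1, 0)], [(1, 0)])],
      [([(2, 1), (1, 3)], [(2, 1), (1, 3)])],
      [([(2, 0), (1, 4)], [(2, 0), (1, 4)]), ([(2, 3), (1, 5)], [(2, 1), (1, 7)]), ([(1, 0), (1, 1), (2, 3), (2, 4)], [(2, 1), (1, 3)])],
      [([(1, 8)], [(1, 0)]), ([(1, 1), (2, 3), (1, 5), (2, 9)], [(2, 1), (1, 15)])],
      [([(2, 0), (1, 1), (2, 3), (1, 8), (2, 17), (1, 19)], [(1, 0)]), ([(2, 3), (1, 4), (1, 5), (2, 8), (2, 19), (1, 21)], [(2, 5), (1, 11)])],
      [([(1, 0), (1, 4), (1, 33), (2, 35)], [(2, 0), (1, 12)]), ([(1, 0), (1, 1), (2, 3), (2, 4), (1, 17), (2, 19)], [(2, 0), (1, 4)]), ([(2, 3), (1, 5), (2, 19), (1, 21), (2, 33), (2, 37)], [(2, 1), (1, 7)]), ([(2, 3), (2, 8), (2, 17), (1, 21), (2, 35), (2, 49)], [(2, 0), (1, 37)])]]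
  span := [[(2, 0), (2, 1), (2, 3), (1, 4), (2, 5), (2, 9), (1, 17), (1, 21)],
      [(2, 0), (2, 4), (2, 33), (1, 35)],
      [(1, 1), (1, 3), (1, 4), (2, 5), (1, 8), (2, 9), (2, 19), (1, 21), (2, 35), (2, 49)],
      [(1, 0), (1, 1), (2, 3), (2, 4), (1, 17), (2, 19)],
      [(2, 0), (1, 1), (2, 3), (1, 4), (1, 5), (2, 9)],
      [(2, 4), (1, 8)],
      [(2, 3), (1, 5), (2, 19), (1, 21)],
      [(1, 0), (2, 4)],
      [(2, 1), (2, 5), (1, 17), (1, 21)],
      [(2, 0), (2, 8)],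
      [(1, 1), (2, 3), (1, 4), (1, 5), (1, 8), (2, 9), (1, 33), (2, 35), (1, 37), (2, 49)],
      [(2, 1), (1, 3), (1, 17), (2, 19)],
      [(2, 0), (1, 1), (2, 3), (1, 4), (1, 5), (2, 9), (2, 35), (1, 37)],
      [(2, 0), (1, 1), (2, 3), (1, 17), (2, 19), (1, 33), (2, 35), (1, 64)],
      [(1, 3), (2, 5), (2, 19), (1, 21)],
      [(1, 0), (2, 4), (1, 9), (1, 17), (2, 19), (1, 21), (1, 33), (1, 35), (2, 65)]]

/-- The nontrivial maps fixing the pair number 0. -/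
def stab0 : List (List Vec) := [[(.node (.node (.node (.node (.leaf 1) (.leaf 0)) (.node (.leaf 0) (.leaf 0))) (.node (.node (.leaf 0) (.leaf 0)) (.node (.leaf 0) (.leaf 0)))) (.node (.node (.node (.leaf 0) (.leaf 0)) (.node (.leaf 0) (.leaf 0))) (.node (.node (.leaf 0) (.leaf 0)) (.node (.leaf 0) (.leaf 0))))),
   (.node (.node (.node (.node (.leaf 0) (.leaf 2)) (.node (.leaf 0) (.leaf 0))) (.node (.node (.leaf 0) (.leaf 0)) (.node (.leaf 0) (.leaf 0)))) (.node (.node (.node (.leaf 0) (.leaf 0)) (.node (.leaf 0) (.leaf 0))) (.node (.node (.leaf 0) (.leaf 0)) (.node (.leaf 0) (.leaf 0))))),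
   (.node (.node (.node (.node (.leaf 0) (.leaf 0)) (.node (.leaf 2) (.leaf 0))) (.node (.node (.leaf 0) (.leaf 0)) (.node (.leaf 0) (.leaf 0)))) (.node (.node (.node (.leaf 0) (.leaf 0)) (.node (.leaf 0) (.leaf 0))) (.node (.node (.leaf 0) (.leaf 0)) (.node (.leaf 0) (.leaf 0))))),
   (.node (.node (.node (.node (.leaf 0) (.leaf 0)) (.node (.leaf 0) (.leaf 1))) (.node (.node (.leaf 0) (.leaf 0)) (.node (.leaf 0) (.leaf 0)))) (.node (.node (.node (.leaf 0) (.leaf 0)) (.node (.leaf 0) (.leaf 0))) (.node (.node (.leaf 0) (.leaf 0)) (.node (.leaf 0) (.leaf 0))))),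
   (.node (.node (.node (.node (.leaf 0) (.leaf 0)) (.node (.leaf 0) (.leaf 0))) (.node (.node (.leaf 1) (.leaf 0)) (.node (.leaf 0) (.leaf 0)))) (.node (.node (.node (.leaf 0) (.leaf 0)) (.node (.leaf 0) (.leaf 0))) (.node (.node (.leaf 0) (.leaf 0)) (.node (.leaf 0) (.leaf 0))))),
   (.node (.node (.node (.node (.leaf 0) (.leaf 0)) (.node (.leaf 0) (.leaf 0))) (.node (.node (.leaf 0) (.leaf 1)) (.node (.leaf 0) (.leaf 0)))) (.node (.node (.node (.leaf 0) (.leaf 0)) (.node (.leaf 0) (.leaf 0))) (.node (.node (.leaf 0) (.leaf 0)) (.node (.leaf 0) (.leaf 0))))),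
   (.node (.node (.node (.node (.leaf 0) (.leaf 0)) (.node (.leaf 0) (.leaf 0))) (.node (.node (.leaf 0) (.leaf 0)) (.node (.leaf 1) (.leaf 0)))) (.node (.node (.node (.leaf 0) (.leaf 0)) (.node (.leaf 0) (.leaf 0))) (.node (.node (.leaf 0) (.leaf 0)) (.node (.leaf 0) (.leaf 0))))),
   (.node (.node (.node (.node (.leaf 0) (.leaf 0)) (.node (.leaf 0) (.leaf 0))) (.node (.node (.leaf 0) (.leaf 0)) (.node (.leaf 0) (.leaf 1)))) (.node (.node (.node (.leaf 0) (.leaf 0)) (.node (.leaf 0) (.leaf 0))) (.node (.node (.leaf 0) (.leaf 0)) (.node (.leaf 0) (.leaf 0))))),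
   (.node (.node (.node (.node (.leaf 0) (.leaf 0)) (.node (.leaf 0) (.leaf 0))) (.node (.node (.leaf 0) (.leaf 0)) (.node (.leaf 0) (.leaf 0)))) (.node (.node (.node (.leaf 1) (.leaf 0)) (.node (.leaf 0) (.leaf 0))) (.node (.node (.leaf 0) (.leaf 0)) (.node (.leaf 0) (.leaf 0))))),
   (.node (.node (.node (.node (.leaf 0) (.leaf 0)) (.node (.leaf 0) (.leaf 0))) (.node (.node (.leaf 0) (.leaf 0)) (.node (.leaf 0) (.leaf 0)))) (.node (.node (.node (.leaf 0) (.leaf 1)) (.node (.leaf 0) (.leaf 0))) (.node (.node (.leaf 0) (.leaf 0)) (.node (.leaf 0) (.leaf 0))))),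
   (.node (.node (.node (.node (.leaf 0) (.leaf 0)) (.node (.leaf 0) (.leaf 0))) (.node (.node (.leaf 0) (.leaf 0)) (.node (.leaf 0) (.leaf 0)))) (.node (.node (.node (.leaf 0) (.leaf 0)) (.node (.leaf 1) (.leaf 0))) (.node (.node (.leaf 0) (.leaf 0)) (.node (.leaf 0) (.leaf 0))))),
   (.node (.node (.node (.node (.leaf 0) (.leaf 0)) (.node (.leaf 0) (.leaf 0))) (.node (.node (.leaf 0) (.leaf 0)) (.node (.leaf 0) (.leaf 0)))) (.node (.node (.node (.leaf 0) (.leaf 0)) (.node (.leaf 0) (.leaf 1))) (.node (.node (.leaf 0) (.leaf 0)) (.node (.leaf 0) (.leaf 0))))),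
   (.node (.node (.node (.node (.leaf 0) (.leaf 0)) (.node (.leaf 0) (.leaf 0))) (.node (.node (.leaf 0) (.leaf 0)) (.node (.leaf 0) (.leaf 0)))) (.node (.node (.node (.leaf 0) (.leaf 0)) (.node (.leaf 0) (.leaf 0))) (.node (.node (.leaf 2) (.leaf 0)) (.node (.leaf 0) (.leaf 0))))),
   (.node (.node (.node (.node (.leaf 0) (.leaf 0)) (.node (.leaf 0) (.leaf 0))) (.node (.node (.leaf 0) (.leaf 0)) (.node (.leaf 0) (.leaf 0)))) (.node (.node (.node (.leaf 0) (.leaf 0)) (.node (.leaf 0) (.leaf 0))) (.node (.node (.leaf 0) (.leaf 1)) (.node (.leaf 0) (.leaf 0))))),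
   (.node (.node (.node (.node (.leaf 0) (.leaf 0)) (.node (.leaf 0) (.leaf 0))) (.node (.node (.leaf 0) (.leaf 0)) (.node (.leaf 0) (.leaf 0)))) (.node (.node (.node (.leaf 0) (.leaf 0)) (.node (.leaf 0) (.leaf 0))) (.node (.node (.leaf 0) (.leaf 0)) (.node (.leaf 1) (.leaf 0))))),
   (.node (.node (.node (.node (.leaf 0) (.leaf 0)) (.node (.leaf 0) (.leaf 0))) (.node (.node (.leaf 0) (.leaf 0)) (.node (.leaf 0) (.leaf 0)))) (.node (.node (.node (.leaf 0) (.leaf 0)) (.node (.leaf 0) (.leaf 0))) (.node (.node (.leaf 0) (.leaf 0)) (.node (.leaf 0) (.leaf 2)))))]]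

theorem good0 : goodPair 3 4 false pair0 stab0 = true := by decide +kernel

/-- The pair number 1. -/
def pair1 : PairCert where
  gens := [⟨1, 0, 1, false⟩, ⟨1, 0, 2, false⟩, ⟨1, 0, 4, false⟩, ⟨1, 0, 8, false⟩, ⟨1, 1, 0, false⟩, ⟨1, 4, 0, false⟩]
  v := (.node (.node (.node (.node (.leaf 0) (.leaf 0)) (.node (.leaf 0) (.leaf 0))) (.node (.node (.leaf 2) (.leaf 0)) (.node (.leaf 1) (.leaf 0)))) (.node (.node (.node (.leaf 1) (.leaf 0)) (.node (.leaf 0) (.leaf 0))) (.node (.node (.leaf 0) (.leaf 0)) (.node (.leaf 2) (.leaf 0)))))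
  w := (.node (.node (.node (.node (.leaf 0) (.leaf 1)) (.node (.leaf 2) (.leaf 1))) (.node (.node (.leaf 0) (.leaf 0)) (.node (.leaf 0) (.leaf 0)))) (.node (.node (.node (.leaf 0) (.leaf 2)) (.node (.leaf 1) (.leaf 1))) (.node (.node (.leaf 0) (.leaf 2)) (.node (.leaf 2) (.leaf 0)))))
  rels := [[([(2, 0)], [(1, 0)])],
      [([(1, 1), (1, 3)], [(1, 1), (1, 3)])],
      [([(2, 0), (1, 4)], [(2, 0), (1, 4)]), ([(2, 3), (2, 5)], [(1, 3), (1, 5)])],
      [([(2, 1), (2, 3), (1, 8), (1, 9), (1, 11)], [(1, 0)]), ([(2, 1), (1, 9)], [(2, 1), (1, 9)])],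
      [([(1, 19), (1, 21)], [(1, 1), (1, 3), (1, 9), (1, 11)]), ([(1, 1), (1, 3), (2, 9), (2, 11), (2, 17), (2, 19)], [(1, 3), (1, 5)]), ([(2, 3), (2, 5), (2, 9), (1, 11), (1, 17), (1, 21)], [(1, 0), (1, 8)])],
      [([(2, 0), (2, 1), (2, 3), (2, 8), (2, 17), (2, 19), (2, 33), (1, 35)], [(1, 0)]), ([(1, 9), (2, 11), (1, 17), (1, 21)], [(1, 48)]), ([(2, 0), (1, 4), (1, 5), (2, 11), (1, 19), (2, 21), (2, 36)], [(1, 19)])]]
  span := [[(2, 0), (1, 1), (1, 3), (2, 8), (2, 9), (2, 11), (2, 17), (1, 21), (2, 33), (2, 41)],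
      [(1, 1), (1, 5), (1, 17), (1, 21)],
      [(2, 1), (2, 3), (2, 17), (2, 19)],
      [(2, 3), (2, 5), (2, 19), (2, 21)],
      [(1, 4), (2, 8)],
      [(2, 3), (2, 5), (2, 9), (1, 11), (1, 17), (1, 21), (1, 32), (1, 36)],
      [(2, 0), (2, 1), (2, 3), (1, 4), (1, 9), (1, 11)],
      [(2, 19), (2, 21), (2, 32), (1, 33), (1, 35), (1, 36)],
      [(2, 0), (2, 8)],
      [(2, 3), (2, 5), (2, 9), (1, 11), (1, 17), (1, 21)],
      [(1, 9), (1, 11), (2, 17), (2, 19)],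
      [(2, 3), (2, 5), (1, 19), (1, 21)],
      [(1, 19), (1, 21), (2, 35), (2, 41)],
      [(2, 1), (1, 3), (1, 9), (2, 11)],
      [(2, 1), (2, 3), (1, 9), (1, 11)],
      [(2, 19), (2, 21), (1, 33), (1, 35)]]

/-- The nontrivial maps fixing the pair number 1. -/
def stab1 : List (List Vec) := [[(.node (.node (.node (.node (.leaf 2) (.leaf 0)) (.node (.leaf 0) (.leaf 0))) (.node (.node (.leaf 2) (.leaf 0)) (.node (.leaf 0) (.leaf 0)))) (.node (.node (.node (.leaf 2) (.leaf 0)) (.node (.leaf 0) (.leaf 0))) (.node (.node (.leaf 2) (.leaf 0)) (.node (.leaf 0) (.leaf 0))))),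
   (.node (.node (.node (.node (.leaf 0) (.leaf 2)) (.node (.leaf 0) (.leaf 0))) (.node (.node (.leaf 0) (.leaf 2)) (.node (.leaf 0) (.leaf 0)))) (.node (.node (.node (.leaf 0) (.leaf 2)) (.node (.leaf 0) (.leaf 0))) (.node (.node (.leaf 0) (.leaf 2)) (.node (.leaf 0) (.leaf 0))))),
   (.node (.node (.node (.node (.leaf 0) (.leaf 0)) (.node (.leaf 2) (.leaf 0))) (.node (.node (.leaf 0) (.leaf 0)) (.node (.leaf 1) (.leaf 0)))) (.node (.node (.node (.leaf 0) (.leaf 0)) (.node (.leaf 2) (.leaf 0))) (.node (.node (.leaf 0) (.leaf 0)) (.node (.leaf 1) (.leaf 0))))),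
   (.node (.node (.node (.node (.leaf 0) (.leaf 0)) (.node (.leaf 0) (.leaf 2))) (.node (.node (.leaf 0) (.leaf 0)) (.node (.leaf 0) (.leaf 1)))) (.node (.node (.node (.leaf 0) (.leaf 0)) (.node (.leaf 0) (.leaf 2))) (.node (.node (.leaf 0) (.leaf 0)) (.node (.leaf 0) (.leaf 1))))),
   (.node (.node (.node (.node (.leaf 2) (.leaf 0)) (.node (.leaf 0) (.leaf 0))) (.node (.node (.leaf 2) (.leaf 0)) (.node (.leaf 0) (.leaf 0)))) (.node (.node (.node (.leaf 1) (.leaf 0)) (.node (.leaf 0) (.leaf 0))) (.node (.node (.leaf 1) (.leaf 0)) (.node (.leaf 0) (.leaf 0))))),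
   (.node (.node (.node (.node (.leaf 0) (.leaf 2)) (.node (.leaf 0) (.leaf 0))) (.node (.node (.leaf 0) (.leaf 2)) (.node (.leaf 0) (.leaf 0)))) (.node (.node (.node (.leaf 0) (.leaf 1)) (.node (.leaf 0) (.leaf 0))) (.node (.node (.leaf 0) (.leaf 1)) (.node (.leaf 0) (.leaf 0))))),
   (.node (.node (.node (.node (.leaf 0) (.leaf 0)) (.node (.leaf 1) (.leaf 0))) (.node (.node (.leaf 0) (.leaf 0)) (.node (.leaf 2) (.leaf 0)))) (.node (.node (.node (.leaf 0) (.leaf 0)) (.node (.leaf 2) (.leaf 0))) (.node (.node (.leaf 0) (.leaf 0)) (.node (.leaf 1) (.leaf 0))))),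
   (.node (.node (.node (.node (.leaf 0) (.leaf 0)) (.node (.leaf 0) (.leaf 1))) (.node (.node (.leaf 0) (.leaf 0)) (.node (.leaf 0) (.leaf 2)))) (.node (.node (.node (.leaf 0) (.leaf 0)) (.node (.leaf 0) (.leaf 2))) (.node (.node (.leaf 0) (.leaf 0)) (.node (.leaf 0) (.leaf 1))))),
   (.node (.node (.node (.node (.leaf 2) (.leaf 0)) (.node (.leaf 0) (.leaf 0))) (.node (.node (.leaf 1) (.leaf 0)) (.node (.leaf 0) (.leaf 0)))) (.node (.node (.node (.leaf 2) (.leaf 0)) (.node (.leaf 0) (.leaf 0))) (.node (.node (.leaf 1) (.leaf 0)) (.node (.leaf 0) (.leaf 0))))),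
   (.node (.node (.node (.node (.leaf 0) (.leaf 2)) (.node (.leaf 0) (.leaf 0))) (.node (.node (.leaf 0) (.leaf 1)) (.node (.leaf 0) (.leaf 0)))) (.node (.node (.node (.leaf 0) (.leaf 2)) (.node (.leaf 0) (.leaf 0))) (.node (.node (.leaf 0) (.leaf 1)) (.node (.leaf 0) (.leaf 0))))),
   (.node (.node (.node (.node (.leaf 0) (.leaf 0)) (.node (.leaf 2) (.leaf 0))) (.node (.node (.leaf 0) (.leaf 0)) (.node (.leaf 2) (.leaf 0)))) (.node (.node (.node (.leaf 0) (.leaf 0)) (.node (.leaf 2) (.leaf 0))) (.node (.node (.leaf 0) (.leaf 0)) (.node (.leaf 2) (.leaf 0))))),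
   (.node (.node (.node (.node (.leaf 0) (.leaf 0)) (.node (.leaf 0) (.leaf 2))) (.node (.node (.leaf 0) (.leaf 0)) (.node (.leaf 0) (.leaf 2)))) (.node (.node (.node (.leaf 0) (.leaf 0)) (.node (.leaf 0) (.leaf 2))) (.node (.node (.leaf 0) (.leaf 0)) (.node (.leaf 0) (.leaf 2))))),
   (.node (.node (.node (.node (.leaf 2) (.leaf 0)) (.node (.leaf 0) (.leaf 0))) (.node (.node (.leaf 1) (.leaf 0)) (.node (.leaf 0) (.leaf 0)))) (.node (.node (.node (.leaf 1) (.leaf 0)) (.node (.leaf 0) (.leaf 0))) (.node (.node (.leaf 2) (.leaf 0)) (.node (.leaf 0) (.leaf 0))))),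
   (.node (.node (.node (.node (.leaf 0) (.leaf 2)) (.node (.leaf 0) (.leaf 0))) (.node (.node (.leaf 0) (.leaf 1)) (.node (.leaf 0) (.leaf 0)))) (.node (.node (.node (.leaf 0) (.leaf 1)) (.node (.leaf 0) (.leaf 0))) (.node (.node (.leaf 0) (.leaf 2)) (.node (.leaf 0) (.leaf 0))))),
   (.node (.node (.node (.node (.leaf 0) (.leaf 0)) (.node (.leaf 1) (.leaf 0))) (.node (.node (.leaf 0) (.leaf 0)) (.node (.leaf 1) (.leaf 0)))) (.node (.node (.node (.leaf 0) (.leaf 0)) (.node (.leaf 2) (.leaf 0))) (.node (.node (.leaf 0) (.leaf 0)) (.node (.leaf 2) (.leaf 0))))),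
   (.node (.node (.node (.node (.leaf 0) (.leaf 0)) (.node (.leaf 0) (.leaf 1))) (.node (.node (.leaf 0) (.leaf 0)) (.node (.leaf 0) (.leaf 1)))) (.node (.node (.node (.leaf 0) (.leaf 0)) (.node (.leaf 0) (.leaf 2))) (.node (.node (.leaf 0) (.leaf 0)) (.node (.leaf 0) (.leaf 2)))))]]

theorem good1 : goodPair 3 4 false pair1 stab1 = true := by decide +kernel

/-- The certified pairs with their stabilisers. -/
def certs : List (PairCert × List (List Vec)) := [(pair0, stab0), (pair1, stab1)]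

/-- The branch tree over the stabilisers. -/
def tree : Tree := (.branch 0 [(.branch 1 [(.dead [1, 0])])])

theorem good : ∀ x ∈ certs, goodPair 3 4 false x.1 x.2 = true := by
  intro x hx
  simp only [certs, List.mem_cons, List.not_mem_nil, or_false] at hx
  rcases hx with rfl | rfl
  · exact good0
  · exact good1

theorem refuted : refute 3 4 (certs.map Prod.snd) [] tree = true := by decide +kernel

end Cfsg.Agent.H14.BaseTwoCert.S34
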