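import Cfsg.Agent.H94.BaseTwo.CertDefs

/-!
Pair certificates for the model with field size 5, width 2, minus = false.
Found by computer search; every entry is checked by evaluation in the kernel.
-/

set_option autoImplicit false
set_option maxRecDepth 100000
set_option maxHeartbeats 0

namespace Cfsg.Agent.H14.BaseTwoCert.S52

open Cfsg.Agent.H94.BaseTwo

/-- The pair number 0. -/
def pair0 : PairCert where
  gens := [⟨1, 0, 2, false⟩, ⟨1, 1, 0, false⟩]
  v := (.node (.node (.leaf 2) (.leaf 1)) (.node (.leaf 4) (.leaf 1)))
  w := (.node (.node (.leaf 0) (.leaf 2)) (.node (.leaf 1) (.leaf 3)))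
  rels := [[],
      [([(4, 0), (4, 1), (3, 2), (4, 3)], [(1, 0)]), ([(3, 0), (1, 1), (1, 2), (2, 3)], [(1, 1)])]]
  span := [[(4, 0), (3, 1), (4, 2), (3, 3)],
      [(4, 1), (4, 3)],
      [(4, 0), (2, 1), (1, 2), (3, 3)],
      [(2, 0), (2, 1), (3, 2), (3, 3)]]

/-- The nontrivial maps fixing the pair number 0. -/
def stab0 : List (List Vec) := []

theorem good0 : goodPair 5 2 false pair0 stab0 = true := by decide +kernel

/-- The certified pairs with their stabilisers. -/
def certs : List (PairCert × List (List Vec)) := [(pair0, stab0)]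

/-- The branch tree over the stabilisers. -/
def tree : Tree := (.branch 0 [])

theorem good : ∀ x ∈ certs, goodPair 5 2 false x.1 x.2 = true := by
  intro x hx
  simp only [certs, List.mem_cons, List.not_mem_nil, or_false] at hx
  rcases hx with rfl
  exact good0

theorem refuted : refute 5 2 (certs.map Prod.snd) [] tree = true := by decide +kernel

end Cfsg.Agent.H14.BaseTwoCert.S52
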