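import Cfsg.Agent.H94.BaseTwo.CertDefs

/-!
Pair certificates for the model with field size 5, width 3, minus = false.
Found by computer search; every entry is checked by evaluation in the kernel.
-/

set_option autoImplicit false
set_option maxRecDepth 100000
set_option maxHeartbeats 0

namespace Cfsg.Agent.H14.BaseTwoCert.S53

open Cfsg.Agent.H94.BaseTwo

/-- The pair number 0. -/
def pair0 : PairCert where
  gens := [⟨1, 0, 1, false⟩, ⟨1, 1, 0, false⟩, ⟨1, 0, 4, false⟩, ⟨1, 0, 2, false⟩]
  v := (.node (.node (.node (.leaf 0) (.leaf 3)) (.node (.leaf 0) (.leaf 1))) (.node (.node (.leaf 0) (.leaf 2)) (.node (.leaf 0) (.leaf 3))))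
  w := (.node (.node (.node (.leaf 0) (.leaf 1)) (.node (.leaf 1) (.leaf 4))) (.node (.node (.leaf 1) (.leaf 1)) (.node (.leaf 1) (.leaf 3))))
  rels := [[([(1, 0)], [(1, 0)])],
      [([(1, 0), (3, 3)], [(3, 0), (1, 1)]), ([(1, 0), (2, 1)], [(2, 0), (1, 3)])],
      [],
      [([(2, 0), (3, 9), (2, 11)], [(1, 0)]), ([(3, 1), (2, 3), (2, 8)], [(1, 8)]), ([(2, 4), (1, 9), (1, 11), (2, 12)], [(1, 4)])]]
  span := [[(2, 1), (2, 3), (1, 4), (2, 9), (2, 11), (1, 12)],
      [(2, 0), (1, 1), (4, 3), (2, 8), (1, 9), (4, 11)],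
      [(4, 1), (4, 3), (4, 9), (4, 11)],
      [(2, 0), (2, 1), (3, 3), (2, 8), (2, 9), (3, 11)],
      [(2, 1), (2, 3), (2, 4), (3, 9), (3, 11), (3, 12)],
      [(3, 0), (1, 1), (4, 3), (2, 8), (4, 9), (1, 11)],
      [(2, 1), (2, 3), (3, 4), (3, 9), (3, 11), (2, 12)],
      [(4, 0), (1, 1), (4, 3), (1, 8), (4, 9), (1, 11)]]

/-- The nontrivial maps fixing the pair number 0. -/
def stab0 : List (List Vec) := []

theorem good0 : goodPair 5 3 false pair0 stab0 = true := by decide +kernel

/-- The certified pairs with their stabilisers. -/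
def certs : List (PairCert × List (List Vec)) := [(pair0, stab0)]

/-- The branch tree over the stabilisers. -/
def tree : Tree := (.branch 0 [])

theorem good : ∀ x ∈ certs, goodPair 5 3 false x.1 x.2 = true := by
  intro x hx
  simp only [certs, List.mem_cons, List.not_mem_nil, or_false] at hx
  rcases hx with rfl
  exact good0

theorem refuted : refute 5 3 (certs.map Prod.snd) [] tree = true := by decide +kernel

end Cfsg.Agent.H14.BaseTwoCert.S53
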