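import Cfsg.Agent.H94.BaseTwo.CertDefs

/-!
Pair certificates for the model with field size 5, width 4, minus = false.
Found by computer search; every entry is checked by evaluation in the kernel.
-/

set_option autoImplicit false
set_option maxRecDepth 100000
set_option maxHeartbeats 0

namespace Cfsg.Agent.H14.BaseTwoCert.S54

open Cfsg.Agent.H94.BaseTwo

/-- The pair number 0. -/
def pair0 : PairCert where
  gens := [⟨1, 0, 1, false⟩, ⟨1, 0, 2, false⟩, ⟨1, 0, 4, false⟩, ⟨1, 0, 8, false⟩, ⟨1, 1, 0, false⟩, ⟨1, 2, 0, false⟩]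
  v := (.node (.node (.node (.node (.leaf 0) (.leaf 0)) (.node (.leaf 0) (.leaf 0))) (.node (.node (.leaf 0) (.leaf 3)) (.node (.leaf 0) (.leaf 4)))) (.node (.node (.node (.leaf 0) (.leaf 0)) (.node (.leaf 0) (.leaf 1))) (.node (.node (.leaf 0) (.leaf 0)) (.node (.leaf 0) (.leaf 1)))))
  w := (.node (.node (.node (.node (.leaf 0) (.leaf 3)) (.node (.leaf 0) (.leaf 0))) (.node (.node (.leaf 3) (.leaf 1)) (.node (.leaf 3) (.leaf 0)))) (.node (.node (.node (.leaf 4) (.leaf 1)) (.node (.leaf 3) (.leaf 0))) (.node (.node (.leaf 4) (.leaf 4)) (.node (.leaf 3) (.leaf 0)))))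
  rels := [[([(1, 0)], [(1, 0)])],
      [([(1, 1), (4, 3)], [(4, 1), (1, 3)])],
      [([(1, 0), (1, 4)], [(1, 0), (1, 4)])],
      [([(4, 0), (4, 4)], [(1, 0), (1, 4)]), ([(1, 0), (1, 8)], [(1, 0), (1, 8)]), ([(4, 0), (1, 3), (4, 4), (1, 9)], [(1, 3), (1, 9)])],
      [([(1, 3), (1, 5), (1, 17), (1, 19)], [(1, 0)]), ([(3, 0), (3, 4), (4, 16)], [(4, 1), (1, 5)]), ([(2, 1), (3, 3), (1, 9), (4, 11), (1, 16), (2, 17), (3, 19)], [(1, 1), (1, 3)])],
      [([(4, 0), (4, 1), (1, 3), (2, 9), (3, 11), (4, 16), (4, 17), (1, 19)], [(1, 0)]), ([(4, 3), (4, 5), (2, 19), (2, 21)], [(4, 1), (1, 5)])]]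
  span := [[(2, 1), (2, 5), (1, 9), (1, 13), (1, 16), (2, 17), (2, 21), (2, 33)],
      [(3, 0), (3, 1), (2, 3), (3, 4), (3, 17), (2, 19)],
      [(3, 0), (2, 1), (1, 3), (4, 4), (2, 5), (3, 11), (2, 13), (2, 16), (2, 17), (1, 19), (2, 21), (2, 97)],
      [(4, 0), (3, 1), (1, 3), (4, 4), (3, 5), (3, 8), (1, 17), (3, 19), (2, 21), (2, 65)],
      [(3, 3), (3, 5), (3, 19), (3, 21)],
      [(1, 0), (1, 4)],
      [(3, 1), (2, 5), (3, 17), (2, 21)],
      [(3, 4), (2, 16)],
      [(1, 3), (1, 5), (1, 11), (1, 13)],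
      [(1, 0), (1, 4), (4, 9), (1, 11), (1, 17), (4, 19)],
      [(3, 1), (2, 5), (3, 9), (2, 13)],
      [(3, 0), (3, 8)],
      [(4, 11), (4, 13), (4, 19), (4, 21)],
      [(1, 0), (1, 1), (4, 3), (1, 4), (4, 9), (1, 11)],
      [(2, 9), (3, 13), (2, 17), (3, 21)],
      [(2, 8), (2, 16)]]

/-- The nontrivial maps fixing the pair number 0. -/
def stab0 : List (List Vec) := []

theorem good0 : goodPair 5 4 false pair0 stab0 = true := by decide +kernel

/-- The certified pairs with their stabilisers. -/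
def certs : List (PairCert × List (List Vec)) := [(pair0, stab0)]

/-- The branch tree over the stabilisers. -/
def tree : Tree := (.branch 0 [])

theorem good : ∀ x ∈ certs, goodPair 5 4 false x.1 x.2 = true := by
  intro x hx
  simp only [certs, List.mem_cons, List.not_mem_nil, or_false] at hx
  rcases hx with rfl
  exact good0

theorem refuted : refute 5 4 (certs.map Prod.snd) [] tree = true := by decide +kernel

end Cfsg.Agent.H14.BaseTwoCert.S54
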